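import Mathlib
import Cfsg.Agent.Characters.Core
import Cfsg.Agent.Characters.Linear
import Cfsg.Agent.PermutationGroups.PermChar
import Cfsg.Agent.FastGrp
import Cfsg.Agent.Prune
set_option linter.all false
prune_inst 0x7f00000000000000000000000000000000000000000000000000000000000000000000000000000000000000000000000000000000000000000000000000000000000000000000000000000000000000003fffffffffffffffffffffffffffbeffbdfbfeffff
open scoped Cfsg.Agent.FastGrp

-- part: H969/TT/Count
section
/-!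
# Counting orbits on which a linear character is trivial (helper969)

`U` a finite group acting on a finite set `Ω`.
* `Good K O` : the stabilisers of the points of the orbit `O` are contained in `K`; `mult K` : the number of such orbits;
* `sum_stab` : `∑ α, |U_α| f(α) = |U| ∑ O, f(O)` for an invariant function;
* `sum_char` : `∑ u, ψ(u)⁻¹ #Fix(u) = |U| mult (ker ψ)`;
* `sum_mult` : `U` a `p`-group: `∑ φ ∈ Hom(U, Z/p), mult (ker φ) ≡ |Ω| mod p`.
-/

set_option autoImplicit false
set_option linter.unusedSectionVars false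

namespace Cfsg.Agent.H969.TT.Count

open MulAction

variable {U Ω : Type*} [Group U] [MulAction U Ω]

/-- the stabilisers of the points of the orbit `O` are contained in `K` -/
def Good (K : Subgroup U) (O : orbitRel.Quotient U Ω) : Prop :=
  ∀ α : Ω, (Quotient.mk'' α : orbitRel.Quotient U Ω) = O → stabilizer U α ≤ K

theorem mk_eq {α β : Ω} : (Quotient.mk'' β : orbitRel.Quotient U Ω) = Quotient.mk'' α ↔ β ∈ orbit U α := by
  rw [← orbitRel_apply]
  exact Quotient.eq''

theorem good_mk {K : Subgroup U} [K.Normal] {α : Ω} :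
    Good K (Quotient.mk'' α : orbitRel.Quotient U Ω) ↔ stabilizer U α ≤ K := by
  constructor
  · intro h
    exact h α rfl
  · intro h β hβ
    obtain ⟨u, rfl⟩ := mk_eq.1 hβ
    intro v hv
    have h2 : u⁻¹ * v * u ∈ stabilizer U α := by
      rw [mem_stabilizer_iff] at hv ⊢
      simp only at hv
      rw [mul_smul, mul_smul, hv, inv_smul_smul]
    have h3 := ‹K.Normal›.conj_mem _ (h h2) u
    have h4 : u * (u⁻¹ * v * u) * u⁻¹ = v := by group
    rwa [h4] at h3

variable (Ω) in
/-- the number of orbits whose point stabilisers are contained in `K` -/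
noncomputable def mult (K : Subgroup U) : ℕ :=
  Nat.card {O : orbitRel.Quotient U Ω // Good K O}

theorem card_orbit_mul (α : Ω) : Nat.card (orbit U α) * Nat.card (stabilizer U α) = Nat.card U := by
  rw [← Nat.card_prod]
  exact Nat.card_congr (orbitProdStabilizerEquivGroup U α)

theorem card_orbit_pos [Finite Ω] (α : Ω) : 0 < Nat.card (orbit U α) := by
  have : Nonempty (orbit U α) := ⟨⟨α, mem_orbit_self α⟩⟩
  exact Nat.card_pos

section Fin

variable [Finite U] [Fintype Ω]

theorem card_mk (α : Ω) [DecidableEq (orbitRel.Quotient U Ω)] :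
    (Finset.univ.filter fun β : Ω => (Quotient.mk'' β : orbitRel.Quotient U Ω) = Quotient.mk'' α).card =
      Nat.card (orbit U α) := by
  classical
  rw [← Fintype.card_subtype, ← Nat.card_eq_fintype_card]
  exact Nat.card_congr (Equiv.subtypeEquivRight fun β => mk_eq)

theorem sum_stab [Fintype (orbitRel.Quotient U Ω)] {R : Type*} [CommSemiring R] (f : orbitRel.Quotient U Ω → R) :
    ∑ α : Ω, (Nat.card (stabilizer U α) : R) * f (Quotient.mk'' α) = (Nat.card U : R) * ∑ O, f O := by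
  classical
  rw [← Finset.sum_fiberwise Finset.univ (fun α : Ω => (Quotient.mk'' α : orbitRel.Quotient U Ω)),
    Finset.mul_sum]
  refine Finset.sum_congr rfl fun O _ => ?_
  obtain ⟨α, rfl⟩ := Quotient.mk''_surjective O
  have h1 : ∀ β ∈ (Finset.univ.filter fun β : Ω => (Quotient.mk'' β : orbitRel.Quotient U Ω) = Quotient.mk'' α),
      (Nat.card (stabilizer U β) : R) * f (Quotient.mk'' β) =
        ((Nat.card U / Nat.card (orbit U α) : ℕ) : R) * f (Quotient.mk'' α) := by
    intro β hβ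
    rw [Finset.mem_filter] at hβ
    rw [hβ.2]
    congr 2
    have h2 : orbit U β = orbit U α := orbit_eq_iff.2 (mk_eq.1 hβ.2)
    have h3 := card_orbit_mul (U := U) β
    rw [h2] at h3
    have h4 : 0 < Nat.card (orbit U α) := card_orbit_pos α
    rw [← h3, Nat.mul_div_cancel_left _ h4]
  rw [Finset.sum_congr rfl h1, Finset.sum_const, card_mk, nsmul_eq_mul, ← mul_assoc, ← Nat.cast_mul]
  congr 2
  have h5 : 0 < Nat.card (orbit U α) := card_orbit_pos α
  rw [← card_orbit_mul (U := U) α, Nat.mul_div_cancel_left _ h5]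

/-- a linear character sums to `|S|` or `0` over a subgroup -/
theorem sum_hom (S : Subgroup U) [Fintype S] [DecidableEq Prop] (ψ : U →* ℂˣ) [Decidable (S ≤ ψ.ker)] :
    ∑ u : S, ((ψ (u : U)⁻¹ : ℂˣ) : ℂ) = if S ≤ ψ.ker then (Nat.card S : ℂ) else 0 := by
  classical
  split_ifs with h
  · have h1 : ∀ u : S, ((ψ (u : U)⁻¹ : ℂˣ) : ℂ) = 1 := by
      intro u
      have : ψ (u : U) = 1 := h u.2
      rw [map_inv, this, inv_one, Units.val_one]
    rw [Finset.sum_congr rfl fun u _ => h1 u, Finset.sum_const, Finset.card_univ, nsmul_eq_mul, mul_one,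
      Nat.card_eq_fintype_card]
  · obtain ⟨s, hs, hs1⟩ := Set.not_subset.1 (show ¬ ((S : Set U) ⊆ (ψ.ker : Set U)) from h)
    have h1 : ∑ u : S, ((ψ (u : U)⁻¹ : ℂˣ) : ℂ) = ((ψ s⁻¹ : ℂˣ) : ℂ) * ∑ u : S, ((ψ (u : U)⁻¹ : ℂˣ) : ℂ) := by
      rw [Finset.mul_sum]
      refine Fintype.sum_equiv (Equiv.mulRight (⟨s, hs⟩ : S)⁻¹) _ _ fun u => ?_
      simp only [Equiv.coe_mulRight, Subgroup.coe_mul, InvMemClass.coe_inv, mul_inv_rev, inv_inv, map_mul,
        Units.val_mul]
      rw [← mul_assoc, ← Units.val_mul, ← map_mul, inv_mul_cancel, map_one, Units.val_one, one_mul]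
    have h2 : ((ψ s⁻¹ : ℂˣ) : ℂ) ≠ 1 := by
      intro h3
      apply hs1
      have h4 : ψ s⁻¹ = 1 := Units.ext h3
      rw [map_inv, inv_eq_one] at h4
      exact h4
    have h3 : (1 - ((ψ s⁻¹ : ℂˣ) : ℂ)) * ∑ u : S, ((ψ (u : U)⁻¹ : ℂˣ) : ℂ) = 0 := by
      rw [sub_mul, one_mul, ← h1, sub_self]
    exact (mul_eq_zero.1 h3).resolve_left (sub_ne_zero.2 (Ne.symm h2))

theorem sum_char [Fintype U] (ψ : U →* ℂˣ) :
    ∑ u : U, ((ψ u⁻¹ : ℂˣ) : ℂ) * (Nat.card (fixedBy Ω u) : ℂ) = (Nat.card U : ℂ) * (mult Ω ψ.ker : ℂ) := by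
  classical
  have : Fintype (orbitRel.Quotient U Ω) := Fintype.ofFinite _
  have h0 : ∀ u : U, (Nat.card (fixedBy Ω u) : ℂ) = ∑ α : Ω, if u • α = α then (1 : ℂ) else 0 := by
    intro u
    rw [Finset.sum_boole, ← Fintype.card_subtype, ← Nat.card_eq_fintype_card]
    rfl
  have h1 : ∑ u : U, ((ψ u⁻¹ : ℂˣ) : ℂ) * (Nat.card (fixedBy Ω u) : ℂ) =
      ∑ α : Ω, (Nat.card (stabilizer U α) : ℂ) *
        (if Good ψ.ker (Quotient.mk'' α : orbitRel.Quotient U Ω) then (1 : ℂ) else 0) := by
    simp_rw [h0, Finset.mul_sum]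
    rw [Finset.sum_comm]
    refine Finset.sum_congr rfl fun α _ => ?_
    have h2 : ∑ u : U, ((ψ u⁻¹ : ℂˣ) : ℂ) * (if u • α = α then (1 : ℂ) else 0) =
        ∑ u : stabilizer U α, ((ψ (u : U)⁻¹ : ℂˣ) : ℂ) := by
      simp_rw [mul_ite, mul_one, mul_zero]
      rw [← Finset.sum_filter]
      refine Finset.sum_subtype _ (fun u => ?_) _
      simp [mem_stabilizer_iff]
    rw [h2, sum_hom]
    by_cases h3 : stabilizer U α ≤ ψ.ker
    · rw [if_pos h3, if_pos (good_mk.2 h3), mul_one]
    · rw [if_neg h3, if_neg (fun h => h3 (good_mk.1 h)), mul_zero]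
  rw [h1, sum_stab (fun O => if Good ψ.ker O then (1 : ℂ) else 0), Finset.sum_boole, mult,
    ← Fintype.card_subtype, ← Nat.card_eq_fintype_card (α := {O : orbitRel.Quotient U Ω // Good ψ.ker O})]

end Fin

/-! ### The sum over the characters of order `p` -/

section Sum

variable [Finite U] [Fintype Ω] {p : ℕ} [hp : Fact p.Prime]

/-- homomorphisms to the cyclic group of order `p` -/
abbrev Ch (U : Type*) [Group U] (p : ℕ) : Type _ := U →* Multiplicative (ZMod p)

theorem pow_eq_one' (φ : Ch U p) : φ ^ p = 1 := by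
  ext u
  rw [MonoidHom.pow_apply, MonoidHom.one_apply, ← ofAdd_toAdd (φ u), ← ofAdd_nsmul]
  simp

/-- the group of the homomorphisms which are trivial on `S` -/
def ann (p : ℕ) (S : Subgroup U) : Subgroup (Ch U p) where
  carrier := {φ | S ≤ φ.ker}
  mul_mem' := by
    intro φ χ hφ hχ s hs
    have h1 : φ s = 1 := hφ hs
    have h2 : χ s = 1 := hχ hs
    change (φ * χ) s = 1
    rw [MonoidHom.mul_apply, h1, h2, one_mul]
  one_mem' := by
    intro s _
    rfl
  inv_mem' := by
    intro φ hφ s hs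
    have h1 : φ s = 1 := hφ hs
    change (φ⁻¹) s = 1
    rw [MonoidHom.inv_apply, h1, inv_one]

theorem mem_ann {S : Subgroup U} {φ : Ch U p} : φ ∈ ann p S ↔ S ≤ φ.ker := Iff.rfl

instance finite_Ch : Finite (Ch U p) := Finite.of_injective (fun φ : Ch U p => (φ : U → Multiplicative (ZMod p)))
  DFunLike.coe_injective

theorem dvd_card_of_ne_bot {H : Subgroup (Ch U p)} (h : H ≠ ⊥) : p ∣ Nat.card H := by
  rw [Subgroup.ne_bot_iff_exists_ne_one] at h
  obtain ⟨φ, hφ⟩ := h
  have h1 : orderOf φ = p := by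
    refine orderOf_eq_prime ?_ hφ
    exact Subtype.ext (pow_eq_one' φ.1)
  have h2 := orderOf_dvd_natCard φ
  rwa [h1] at h2

/-- A proper subgroup of a `p`-group is in the kernel of a nontrivial homomorphism to `Z/p`. -/
theorem exists_char (hU : IsPGroup p U) {S : Subgroup U} (hS : S ≠ ⊤) : ∃ φ : Ch U p, S ≤ φ.ker ∧ φ ≠ 1 := by
  obtain ⟨k, hk⟩ := IsPGroup.iff_card.1 hU
  obtain ⟨j, hj⟩ := IsPGroup.iff_card.1 (hU.to_subgroup S)
  have hjk : j < k := by
    have h1 : Nat.card S < Nat.card U := by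
      refine lt_of_le_of_ne (Subgroup.card_le_card_group S) fun h => hS ?_
      exact Subgroup.eq_top_of_card_eq S h
    rw [hj, hk] at h1
    exact (Nat.pow_lt_pow_iff_right hp.out.one_lt).1 h1
  obtain ⟨K, hK, hSK⟩ := Sylow.exists_subgroup_card_pow_prime_le p (m := k - 1)
    (by rw [hk]; exact pow_dvd_pow p (by omega)) S hj (by omega)
  have hidx : K.index = p := by
    have h1 := K.card_mul_index
    rw [hK, hk] at h1
    have h2 : p ^ k = p ^ (k - 1) * p := by rw [← pow_succ]; congr 1; omega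
    rw [h2] at h1
    exact Nat.eq_of_mul_eq_mul_left (pow_pos hp.out.pos _) h1
  have hN : K.Normal := by
    refine Subgroup.normal_of_index_eq_minFac_card ?_
    rw [hidx, hk, Nat.Prime.pow_minFac hp.out (by omega)]
  have hc : Nat.card (U ⧸ K) = p := by rw [← hidx]; rfl
  have hcyc : IsCyclic (U ⧸ K) := isCyclic_of_prime_card hc
  have e : (U ⧸ K) ≃* Multiplicative (ZMod p) := mulEquivOfPrimeCardEq hc (by simp)
  refine ⟨e.toMonoidHom.comp (QuotientGroup.mk' K), ?_, ?_⟩
  · intro s hs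
    have h1 : QuotientGroup.mk' K s = 1 := (QuotientGroup.eq_one_iff s).2 (hSK hs)
    change e (QuotientGroup.mk' K s) = 1
    rw [h1, map_one]
  · intro h
    have h2 : K = ⊤ := by
      rw [eq_top_iff]
      intro u _
      have h3 : e (QuotientGroup.mk' K u) = 1 := DFunLike.congr_fun h u
      rw [map_eq_one_iff e e.injective] at h3
      exact (QuotientGroup.eq_one_iff u).1 h3
    rw [h2, Subgroup.index_top] at hidx
    exact hp.out.one_lt.ne hidx

theorem ann_eq_bot_iff (hU : IsPGroup p U) {S : Subgroup U} : ann p S = ⊥ ↔ S = ⊤ := by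
  constructor
  · intro h
    by_contra hS
    obtain ⟨φ, h1, h2⟩ := exists_char hU hS
    have h3 : φ ∈ ann p S := h1
    rw [h, Subgroup.mem_bot] at h3
    exact h2 h3
  · rintro rfl
    rw [Subgroup.eq_bot_iff_forall]
    intro φ hφ
    ext u
    exact congrArg _ (hφ (Subgroup.mem_top u))

end Sum

end Cfsg.Agent.H969.TT.Count
end

-- part: H969/TT/TopAbs
section
/-!
# Multiplicity of a Gelfand-Graev type character in a principal series permutation character (helper969)

* `PS B Ω` : the permutation module of `Ω` is generated by its `B`-fixed vectors (dual formulation);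
* `sum_mul_eq_zero` : `χ` irreducible, `∑ b ∈ B, χ b = 0` implies `∑ b ∈ B, χ (g b) = 0`;
* `sum_fix_eq_zero` : then `χ` is not a constituent of the permutation character of `Ω`, `PS B Ω`;
* `mult_eq` : `mult Ω (ker ψ) = ⟨π, St⟩`.
-/

set_option autoImplicit false
set_option linter.unusedSectionVars false

namespace Cfsg.Agent.H969.TT.TopAbs

open MulAction Cfsg Cfsg.Agent.Characters.Core Cfsg.Agent.H969.TT.Count
open scoped ComplexConjugate

/-- The permutation module is generated by the `B`-fixed vectors (dual formulation). -/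
def PS {Y : Type*} [Group Y] (B : Subgroup Y) [Fintype B] (Ω : Type*) [MulAction Y Ω] : Prop :=
  ∀ f : Ω → ℂ, (∀ (g : Y) (ω : Ω), ∑ b : B, f (g • (b : Y) • ω) = 0) → f = 0

section A

variable {Y : Type*} [Group Y] [Finite Y] (B : Subgroup Y) [Fintype B]

/-- `∑ b ∈ B, χ b = 0` implies `∑ b ∈ B, χ (g b) = 0`. -/
theorem sum_mul_eq_zero {χ : Y → ℂ} (hχ : IsIrrCharacter Y χ) (h : ∑ b : B, χ b = 0) (g : Y) :
    ∑ b : B, χ (g * b) = 0 := by
  obtain ⟨n, ρ, -, rfl⟩ := hχ
  have hne : (Nat.card B : ℂ) ≠ 0 := card_ne_zero_complex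
  have : Invertible (Nat.card B : ℂ) := invertibleOfNonzero hne
  have h1 := Representation.card_inv_mul_sum_char_eq_finrank (ρ.comp B.subtype)
  have h2 : Module.finrank ℂ (Representation.invariants (ρ.comp B.subtype)) = 0 := by
    have h3 : ∑ b : B, (Representation.character (ρ.comp B.subtype : Representation ℂ B _)) b = 0 := h
    rw [h3, mul_zero] at h1
    exact_mod_cast h1.symm
  have h3 : ∑ b : B, ρ b = 0 := by
    refine LinearMap.ext fun v => ?_
    rw [Submodule.finrank_eq_zero] at h2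
    have h4 : (∑ b : B, ρ b) v ∈ Representation.invariants (ρ.comp B.subtype) := by
      rw [Representation.mem_invariants]
      intro c
      change ρ c ((∑ b : B, ρ b) v) = _
      rw [LinearMap.sum_apply, map_sum]
      refine Fintype.sum_equiv (Equiv.mulLeft c) _ _ fun b => ?_
      rw [Equiv.coe_mulLeft, Subgroup.coe_mul, map_mul]
      rfl
    rw [h2, Submodule.mem_bot] at h4
    rw [h4]
    rfl
  have h4 : ∀ b : B, ρ.character (g * b) = LinearMap.trace ℂ _ (ρ g * ρ b) := by
    intro b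
    rw [Representation.character, map_mul]
  rw [Finset.sum_congr rfl fun b _ => h4 b, ← map_sum, ← Finset.mul_sum, h3, mul_zero, map_zero]

end A

section B

variable {Y : Type*} [Group Y] [Fintype Y] (B : Subgroup Y) [Fintype B] {Ω : Type*} [MulAction Y Ω] [Fintype Ω]

theorem natCard_fixedBy (y : Y) : (Nat.card (fixedBy Ω y) : ℂ) = ∑ α : Ω,
    haveI := Classical.propDecidable; if y • α = α then (1 : ℂ) else 0 := by
  classical
  rw [Finset.sum_boole, ← Fintype.card_subtype, ← Nat.card_eq_fintype_card]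
  rfl

/-- An irreducible character without `B`-invariants is not a constituent of a principal series
permutation character. -/
theorem sum_fix_eq_zero (hPS : PS B Ω) {χ : Y → ℂ} (hχ : IsIrrCharacter Y χ) (h : ∑ b : B, χ b = 0) :
    ∑ y : Y, χ y * (Nat.card (fixedBy Ω y) : ℂ) = 0 := by
  classical
  have hcl := isIrr_isClassFunction hχ
  have key : ∀ α : Ω, ∑ y : Y, χ y * (if y • α = α then (1 : ℂ) else 0) = 0 := by
    intro α
    have h1 := hPS (fun ω => ∑ y : Y, χ y * (if y • ω = α then (1 : ℂ) else 0)) ?_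
    · exact congrFun h1 α
    · intro g ω
      have h2 : ∀ b : B, ∑ y : Y, χ y * (if y • g • (b : Y) • ω = α then (1 : ℂ) else 0) =
          ∑ z : Y, χ (g⁻¹ * z * (b : Y)⁻¹) * (if z • ω = α then (1 : ℂ) else 0) := by
        intro b
        refine Fintype.sum_equiv (Equiv.mulRight (g * (b : Y))) _ _ fun y => ?_
        rw [Equiv.coe_mulRight, mul_smul, mul_smul]
        congr 1
        rw [← hcl y g⁻¹]
        congr 1
        group
      rw [Finset.sum_congr rfl fun b _ => h2 b, Finset.sum_comm]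
      refine Finset.sum_eq_zero fun z _ => ?_
      rw [← Finset.sum_mul]
      have h3 : ∑ b : B, χ (g⁻¹ * z * (b : Y)⁻¹) = ∑ b : B, χ (g⁻¹ * z * b) :=
        Fintype.sum_equiv (Equiv.inv B) _ _ fun b => by simp
      rw [h3, sum_mul_eq_zero B hχ h, zero_mul]
  have h4 : ∀ y : Y, χ y * (Nat.card (fixedBy Ω y) : ℂ) = ∑ α : Ω, χ y * (if y • α = α then (1 : ℂ) else 0) := by
    intro y
    rw [natCard_fixedBy, Finset.mul_sum]
  rw [Finset.sum_congr rfl fun y _ => h4 y, Finset.sum_comm]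
  exact Finset.sum_eq_zero fun α _ => key α

/-- Frobenius reciprocity for the permutation character on cosets. -/
theorem frob {χ : Y → ℂ} (hcl : IsClassFunction Y χ) :
    ∑ y : Y, χ y * (Nat.card (fixedBy (Y ⧸ B) y) : ℂ) = (B.index : ℂ) * ∑ b : B, χ b := by
  classical
  have : Fintype (Y ⧸ B) := Fintype.ofFinite _
  have h4 : ∀ y : Y, χ y * (Nat.card (fixedBy (Y ⧸ B) y) : ℂ) =
      ∑ α : Y ⧸ B, χ y * (if y • α = α then (1 : ℂ) else 0) := by
    intro y
    rw [natCard_fixedBy, Finset.mul_sum]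
    refine Finset.sum_congr rfl fun α _ => ?_
    congr
  rw [Finset.sum_congr rfl fun y _ => h4 y, Finset.sum_comm]
  have h5 : ∀ α : Y ⧸ B, ∑ y : Y, χ y * (if y • α = α then (1 : ℂ) else 0) = ∑ b : B, χ b := by
    intro α
    obtain ⟨g, rfl⟩ := QuotientGroup.mk_surjective α
    have h6 : ∑ y : Y, χ y * (if y • (QuotientGroup.mk g : Y ⧸ B) = QuotientGroup.mk g then (1 : ℂ) else 0) =
        ∑ y : Y, χ y * (if y ∈ B then (1 : ℂ) else 0) := by
      refine Fintype.sum_equiv (MulAut.conj g⁻¹).toEquiv _ _ fun y => ?_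
      have h7 : χ ((MulAut.conj g⁻¹).toEquiv y) = χ y := hcl y g⁻¹
      rw [h7]
      congr 1
      have h8 : (y • (QuotientGroup.mk g : Y ⧸ B) = QuotientGroup.mk g) ↔ (MulAut.conj g⁻¹).toEquiv y ∈ B := by
        change (QuotientGroup.mk (y * g) : Y ⧸ B) = QuotientGroup.mk g ↔ g⁻¹ * y * g⁻¹⁻¹ ∈ B
        rw [eq_comm, QuotientGroup.eq, inv_inv, mul_assoc]
      by_cases h9 : (MulAut.conj g⁻¹).toEquiv y ∈ B
      · rw [if_pos h9, if_pos (h8.2 h9)]
      · rw [if_neg h9, if_neg fun h => h9 (h8.1 h)]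
    rw [h6]
    simp_rw [mul_ite, mul_one, mul_zero]
    rw [← Finset.sum_filter]
    exact Finset.sum_subtype _ (fun u => by simp) _
  rw [Finset.sum_congr rfl fun α _ => h5 α, Finset.sum_const, Finset.card_univ, nsmul_eq_mul,
    Subgroup.index, Nat.card_eq_fintype_card]

end B

section C

variable {Y : Type*} [Group Y] [Fintype Y] {Ω : Type*} [MulAction Y Ω] [Fintype Ω]

theorem isCharacter_perm : IsCharacter Y (fun y => (Nat.card (fixedBy Ω y) : ℂ)) := by
  have h := isCharacter_of_rep (permRep ℂ Y Ω)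
  have h2 : (permRep ℂ Y Ω).character = fun y => (Nat.card (fixedBy Ω y) : ℂ) := by
    funext y
    exact Cfsg.Agent.PermutationGroups.PermChar.permRep_character y
  rwa [h2] at h

/-- **The multiplicity of `ψ^Y` in a principal series permutation character.** -/
theorem mult_eq (B U : Subgroup Y) [Fintype B] [Fintype U] (hPS : PS B Ω) (ψ : U →* ℂˣ)
    {St : Y → ℂ} (hSt : IsIrrCharacter Y St)
    (ha : mult (Y ⧸ B) ψ.ker = 1) (hb : ∑ u : U, ((ψ u⁻¹ : ℂˣ) : ℂ) * St u = (Nat.card U : ℂ))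
    (hc : ∑ b : B, St b ≠ 0) :
    (mult Ω ψ.ker : ℂ) = classInner (fun y : Y => (Nat.card (fixedBy Ω y) : ℂ)) St := by
  classical
  have : Fintype (IrrCharacter Y) := @Fintype.ofFinite _ finite_irr
  have : Fintype (Y ⧸ B) := Fintype.ofFinite _
  have hU0 : (Nat.card U : ℂ) ≠ 0 := card_ne_zero_complex
  obtain ⟨a, hπ⟩ := exists_nat_comb (isCharacter_perm (Y := Y) (Ω := Ω))
  obtain ⟨b, hβ⟩ := exists_nat_comb (isCharacter_perm (Y := Y) (Ω := Y ⧸ B))
  -- the multiplicities of `ψ`
  have hcex : ∀ χ : IrrCharacter Y, ∃ c : ℕ, ∑ u : U, ((ψ u⁻¹ : ℂˣ) : ℂ) * (χ : Y → ℂ) u = (Nat.card U : ℂ) * c := by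
    intro χ
    have h1 : IsCharacter U (fun u : U => (χ : Y → ℂ) u) :=
      isCharacter_comp U.subtype (isIrr_isCharacter χ.2)
    have h2 : IsCharacter U (fun u : U => ((ψ u : ℂˣ) : ℂ)) :=
      isIrr_isCharacter (Cfsg.Agent.Characters.Linear.isIrrCharacter_hom ψ)
    obtain ⟨c, hc⟩ := classInner_isNat h1 h2
    refine ⟨c, ?_⟩
    rw [← hc, classInner_def, ← mul_assoc, mul_inv_cancel₀ hU0, one_mul]
    refine Finset.sum_congr rfl fun u _ => ?_
    rw [← isCharacter_apply_inv h2 u, mul_comm]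
  choose c hc' using hcex
  have hsum : ∀ (m : IrrCharacter Y → ℕ) (f : Y → ℂ), f = ∑ χ : IrrCharacter Y, m χ • (χ : Y → ℂ) →
      ∑ u : U, ((ψ u⁻¹ : ℂˣ) : ℂ) * f u = (Nat.card U : ℂ) * ((∑ χ, m χ * c χ : ℕ) : ℂ) := by
    intro m f hf
    have h1 : ∀ u : U, ((ψ u⁻¹ : ℂˣ) : ℂ) * f u =
        ∑ χ : IrrCharacter Y, (m χ : ℂ) * (((ψ u⁻¹ : ℂˣ) : ℂ) * (χ : Y → ℂ) u) := by
      intro u
      rw [hf, Finset.sum_apply, Finset.mul_sum]
      refine Finset.sum_congr rfl fun χ _ => ?_
      rw [Pi.smul_apply, nsmul_eq_mul]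
      ring
    rw [Finset.sum_congr rfl fun u _ => h1 u, Finset.sum_comm]
    push_cast
    rw [Finset.mul_sum]
    refine Finset.sum_congr rfl fun χ _ => ?_
    rw [← Finset.mul_sum, hc']
    ring
  -- the coset space
  have h1 : ∑ χ, b χ * c χ = 1 := by
    have h2 := hsum b _ hβ
    have h3 := sum_char (U := U) (Ω := Y ⧸ B) ψ
    rw [ha] at h3
    have h4 : ∀ u : U, (Nat.card (fixedBy (Y ⧸ B) u) : ℂ) = (Nat.card (fixedBy (Y ⧸ B) (u : Y)) : ℂ) := fun _ => rfl
    rw [Finset.sum_congr rfl fun u _ => by rw [h4 u], h2] at h3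
    have h5 := mul_left_cancel₀ hU0 h3
    exact_mod_cast h5
  set S : IrrCharacter Y := ⟨St, hSt⟩ with hS
  have hcS : c S = 1 := by
    have h2 := hc' S
    rw [hb] at h2
    have h3 : (Nat.card U : ℂ) * ((c S : ℕ) : ℂ) = (Nat.card U : ℂ) * ((1 : ℕ) : ℂ) := by
      rw [← h2]; simp
    exact_mod_cast mul_left_cancel₀ hU0 h3
  have hbχ : ∀ χ : IrrCharacter Y, b χ = 0 → ∑ y : B, (χ : Y → ℂ) y = 0 := by
    intro χ h2
    have h3 := classInner_sum_nsmul_irr b χ
    rw [← hβ, h2, Nat.cast_zero, classInner_def, mul_eq_zero] at h3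
    have h4 := h3.resolve_left (inv_ne_zero card_ne_zero_complex)
    have h5 := congrArg conj h4
    rw [map_sum, map_zero] at h5
    have h6 : ∑ y : Y, (χ : Y → ℂ) y * (Nat.card (fixedBy (Y ⧸ B) y) : ℂ) = 0 := by
      rw [← h5]
      refine Finset.sum_congr rfl fun y _ => ?_
      rw [map_mul, Complex.conj_conj, Complex.conj_natCast, mul_comm]
    rw [frob B (isIrr_isClassFunction χ.2), mul_eq_zero] at h6
    refine h6.resolve_left ?_
    exact_mod_cast Subgroup.index_ne_zero_of_finite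
  have hbS : b S ≠ 0 := fun h2 => hc (hbχ S h2)
  have haχ : ∀ χ : IrrCharacter Y, b χ = 0 → a χ = 0 := by
    intro χ h2
    have h3 := sum_fix_eq_zero B hPS χ.2 (hbχ χ h2)
    have h4 := classInner_sum_nsmul_irr a χ
    rw [← hπ, classInner_def] at h4
    have h5 : ∑ y : Y, (Nat.card (fixedBy Ω y) : ℂ) * conj ((χ : Y → ℂ) y) = 0 := by
      have h6 := congrArg conj h3
      rw [map_sum, map_zero] at h6
      rw [← h6]
      refine Finset.sum_congr rfl fun y _ => ?_
      rw [map_mul, Complex.conj_natCast, mul_comm]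
    rw [h5, mul_zero] at h4
    exact_mod_cast h4.symm
  have hcχ : ∀ χ : IrrCharacter Y, χ ≠ S → a χ * c χ = 0 := by
    intro χ hne
    by_cases h2 : b χ = 0
    · rw [haχ χ h2, zero_mul]
    · have h3 : b χ * c χ + b S * c S ≤ 1 := by
        rw [← h1, ← Finset.add_sum_erase _ _ (Finset.mem_univ S), add_comm]
        refine Nat.add_le_add_left ?_ _
        exact Finset.single_le_sum (f := fun χ => b χ * c χ) (fun _ _ => Nat.zero_le _)
          (Finset.mem_erase.2 ⟨hne, Finset.mem_univ χ⟩)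
      have h4 : 1 ≤ b S * c S := by
        rw [hcS, mul_one]; exact Nat.one_le_iff_ne_zero.2 hbS
      have h5 : b χ * c χ = 0 := by omega
      rcases Nat.mul_eq_zero.1 h5 with h6 | h6
      · exact absurd h6 h2
      · rw [h6, mul_zero]
  have h2 : ∑ χ, a χ * c χ = a S := by
    rw [Finset.sum_eq_single S (fun χ _ h => hcχ χ h) (fun h => absurd (Finset.mem_univ _) h), hcS, mul_one]
  have h3 := hsum a _ hπ
  rw [h2] at h3
  have h4 := sum_char (U := U) (Ω := Ω) ψ
  have h5 : ∀ u : U, (Nat.card (fixedBy Ω u) : ℂ) = (Nat.card (fixedBy Ω (u : Y)) : ℂ) := fun _ => rfl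
  rw [Finset.sum_congr rfl fun u _ => by rw [h5 u], h3] at h4
  rw [← mul_left_cancel₀ hU0 h4]
  have h6 := classInner_sum_nsmul_irr a S
  rw [← hπ] at h6
  exact h6.symm

end C

end Cfsg.Agent.H969.TT.TopAbs
end

private theorem dce_3faefa502917 : _root_.True := by
  try have : _root_.True := by simp only [_root_.Cfsg.Agent.H969.TT.Count.mult.eq_1]
  exact _root_.True.intro
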